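import Groth.Agent.Fga.PicMon
import Groth.Agent.Pic13.H17.BlowPatch
import Groth.Agent.SDiv.K470.BlowProj
import Groth.Agent.Coh.K415.LerayGen
import Groth.Agent.Models2.QCohPush
import Groth.Agent.FBase.K106.NowhereDense
import Groth.Agent.VarietyB.DimTop
import Groth.Agent.Ega2.BlowBasic
import Groth.Agent.S0927
import Groth.Agent.S1682

/-!
# Cohomology of powers of an ideal by blowing up

`b : X' ⟶ X` proper, a blow-up of the Noetherian scheme `X` in `J`, `P = J O_{X'}` the exceptional ideal.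
* `exists_pushIso`: `J^n ≅ b_* P^n` for all large `n`.
* `exists_equiv`: `H^q(X', b^*E ⊗ P^n) ≃ H^q(X, E ⊗ J^n)` for all `E` finite locally free, all `q` and all large `n`.
* `dim_le`: `dim X' ≤ dim X` for `X` locally of finite type over a field.
-/

set_option autoImplicit false
universe u

open CategoryTheory CategoryTheory.Limits AlgebraicGeometry Opposite TopologicalSpace

namespace K229.BlowCoh

open Groth.Agent Groth.Agent.Pic13.H17.Patch Groth.Agent.Pic13.H17.PatchM1 Groth.Agent.PerfA.IdealModule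

variable {X X' : Scheme.{u}} {b : X' ⟶ X} {J : X.IdealSheafData}

theorem isIso_pull (I : X.IdealSheafData) (h : ∀ U : X.affineOpens, M1 b I U) :
    Nonempty (ClSub.idealMod I ≅ (Scheme.Modules.pushforward b).obj (ClSub.idealMod (I.comap b))) := by
  obtain ⟨φ, hφ⟩ := K470.BlowProj.exists_pull b I
  have key : IsIso φ := by
    refine Models2.QCohPush.isIso_of_affine φ fun U => ⟨?_, ?_⟩
    · intro s t hst
      have h1 := hφ U.1 s
      have h2 := hφ U.1 t
      rw [hst] at h1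
      have h3 : b.app U.1 (val I s) = b.app U.1 (val I t) := h1.symm.trans h2
      refine val_injective I U.1 ?_
      have h4 := h U (b.app U.1 (val I s)) (mem_app b I (val_mem I U s))
      exact h4.unique ⟨val_mem I U s, rfl⟩ ⟨val_mem I U t, h3.symm⟩
    · intro y
      let y' : Γ(ClSub.idealMod (I.comap b), b ⁻¹ᵁ U.1) := y
      obtain ⟨c, ⟨hc, hcy⟩, -⟩ := h U (val (I.comap b) y') (mem_iff.2 ⟨y', rfl⟩)
      obtain ⟨s, hs⟩ := exists_val_eq I U hc
      refine ⟨s, ?_⟩
      refine val_injective (I.comap b) (b ⁻¹ᵁ U.1) ?_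
      refine (hφ U.1 s).trans ?_
      change b.app U.1 (val I s) = val (I.comap b) y'
      rw [hs, hcy]
  exact ⟨asIso φ⟩

theorem exists_pushIso [IsNoetherian X] [IsProper b] (hb : BlowUp.IsBlowUp b J) :
    ∃ n₀ : ℕ, ∀ n, n₀ ≤ n → Nonempty (ClSub.idealMod (J ^ n) ≅
      (Scheme.Modules.pushforward b).obj (ClSub.idealMod ((J.comap b) ^ n))) := by
  obtain ⟨n₀, h⟩ := Pic13.H17.BlowPatch.exists_m1 hb
  refine ⟨n₀, fun n hn => ?_⟩
  rw [← Divis.IdealComap.comap_pow]
  exact isIso_pull _ (h n hn)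

/-- Both statements about large powers. -/
theorem exists_bound [IsNoetherian X] [IsProper b] [HasInjectiveResolutions X'.Modules]
    (hb : BlowUp.IsBlowUp b J) :
    ∃ n₀ : ℕ, ∀ n, n₀ ≤ n → Nonempty (ClSub.idealMod (J ^ n) ≅
      (Scheme.Modules.pushforward b).obj (ClSub.idealMod ((J.comap b) ^ n))) ∧
      ∀ q : ℕ, 0 < q → IsZero ((Coh.Rpush b q).obj (ClSub.idealMod ((J.comap b) ^ n))) := by
  obtain ⟨n₁, h₁⟩ := exists_pushIso hb
  obtain ⟨n₂, h₂⟩ := S0055.result b (ClSub.idealMod (J.comap b))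
    (Ega1.IdealGen.isInvertible_idealMod _ hb.1)
    (fun W hW => Ega1.AmpFamBlow.isAmple_restrict hb ⟨W, hW⟩ _ rfl)
    (Coh.structureModule X') (CurvesC.UnitCoh.isCoh_unit X')
  refine ⟨max n₁ n₂, fun n hn => ⟨h₁ n ((le_max_left _ _).trans hn), fun q hq => ?_⟩⟩
  obtain ⟨e⟩ := Sga2.ThickCoh.idealMod_pow hb.1 n
  have h3 := (Ega3B.RpushAbCmp.isZero_RpushAb_iff b _ q).1 (h₂ n ((le_max_right _ _).trans hn) q hq)
  exact h3.of_iso ((Coh.Rpush b q).mapIso (Ega2.Tens.lunit _ ≪≫ e)).symm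

theorem hasInjectiveResolutions (X : Scheme.{u}) : HasInjectiveResolutions X.Modules := by
  have : IsGrothendieckAbelian.{u} X.Modules :=
    S0484.result (Opens.grothendieckTopology X) X.ringCatSheaf
  have : EnoughInjectives X.Modules := inferInstance
  infer_instance

/-- **Cohomology of twists of powers of an ideal on the blow-up.** -/
theorem exists_equiv (A : Type u) [CommRing A] [X.Over (Spec (CommRingCat.of A))]
    [X'.Over (Spec (CommRingCat.of A))] (hA : b ≫ (X ↘ Spec (CommRingCat.of A)) = X' ↘ Spec (CommRingCat.of A))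
    [IsNoetherian X] [IsProper b] (hb : BlowUp.IsBlowUp b J) :
    ∃ n₀ : ℕ, ∀ n, n₀ ≤ n → ∀ E : X.Modules, FlatMod.IsFinLocFree E → ∀ q : ℕ,
      Nonempty (Coh.HH X (CohB1.tensorMod E (ClSub.idealMod (J ^ n))) q ≃ₗ[A]
        Coh.HH X' (CohB1.tensorMod ((Scheme.Modules.pullback b).obj E)
          (ClSub.idealMod ((J.comap b) ^ n))) q) := by
  have := hasInjectiveResolutions X'
  obtain ⟨n₀, h₀⟩ := exists_bound hb
  refine ⟨n₀, fun n hn E hE q => ?_⟩
  obtain ⟨⟨e⟩, hz⟩ := h₀ n hn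
  set P := ClSub.idealMod ((J.comap b) ^ n) with hP
  have hac : Cohder.RDAcyc.IsAcyc (Scheme.Modules.pushforward b)
      (CohB1.tensorMod ((Scheme.Modules.pullback b).obj E) P) := by
    intro i hi
    obtain ⟨a⟩ := S0927.result b P E hE i
    refine IsZero.of_iso ?_ a.symm
    exact ((DCoh.tensorBi (X := X)).obj E).map_isZero (hz i hi)
  obtain ⟨a⟩ := S0927.result b P E hE 0
  have e0 : (Coh.Rpush b 0).obj P ≅ (Scheme.Modules.pushforward b).obj P :=
    (Scheme.Modules.pushforward b).rightDerivedZeroIsoSelf.app P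
  have e1 : (Coh.Rpush b 0).obj (CohB1.tensorMod ((Scheme.Modules.pullback b).obj E) P) ≅
      (Scheme.Modules.pushforward b).obj (CohB1.tensorMod ((Scheme.Modules.pullback b).obj E) P) :=
    (Scheme.Modules.pushforward b).rightDerivedZeroIsoSelf.app _
  have e2 : CohB1.tensorMod E (ClSub.idealMod (J ^ n)) ≅
      (Scheme.Modules.pushforward b).obj (CohB1.tensorMod ((Scheme.Modules.pullback b).obj E) P) :=
    Ega2.Tens.mapTIso (Iso.refl E) (e ≪≫ e0.symm) ≪≫ a ≪≫ e1
  obtain ⟨f⟩ := K415.LerayGen.exists_equiv_of_isAcyc b A hA _ hac q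
  exact ⟨(Fga.PicMon.hmapEquiv A X e2 q).trans f⟩

/-- The dimension does not increase by blowing up. -/
theorem dim_le {k : Type u} [Field k] (g : X ⟶ Spec (CommRingCat.of k)) [LocallyOfFiniteType g]
    [LocallyOfFiniteType b] [NoetherianSpace X'] (hb : BlowUp.IsBlowUp b J) :
    topologicalKrullDim X' ≤ topologicalKrullDim X := by
  let W : X.Opens := J.support.compl
  have hiso : IsIso (b ∣_ W) := S1682.result J b hb
  have hdense : Dense ((b ⁻¹ᵁ W : X'.Opens) : Set X') := by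
    have h1 := Ega2.BlowBasic.dense_offSupport hb.1
    have h2 : (Ega2.BlowBasic.offSupport (J.comap b) : Set X') = ((b ⁻¹ᵁ W : X'.Opens) : Set X') := by
      ext x
      change x ∉ ((J.comap b).support : Set X') ↔ b x ∉ (J.support : Set X)
      rw [Scheme.IdealSheafData.support_comap]
      rfl
    rwa [h2] at h1
  have hW : topologicalKrullDim ((b ⁻¹ᵁ W : X'.Opens) : Set X') ≤ topologicalKrullDim X := by
    have h1 : Topology.IsInducing ((b ∣_ W) ≫ W.ι) :=
      ((b ∣_ W) ≫ W.ι).isOpenEmbedding.isInducing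
    exact h1.topologicalKrullDim_le
  rw [VarietyB.DimTop.topologicalKrullDim_eq_iSup_irreducibleComponents]
  refine iSup_le fun Z => ?_
  refine (K106.NowhereDense.dim_le_of_open_subset (b ≫ g) (Z := ((b ⁻¹ᵁ W : X'.Opens) : Set X'))
    (b ⁻¹ᵁ W).isOpen subset_rfl Z.2 ?_).trans hW
  obtain ⟨o, ho, hne, hoZ⟩ := NoetherianSpace.exists_isOpen_nonempty_subset_irreducibleComponent Z.1 Z.2
  obtain ⟨x, hx, hx'⟩ := hdense.inter_open_nonempty o ho hne
  exact ⟨x, hx', hoZ hx⟩

end K229.BlowCoh
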