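import Groth.Agent.Coh.K229.BlowGG
import Groth.Agent.VarietyA.EulerAdd
import Groth.Agent.Fga.HodgeSec

/-!
# Euler characteristics and growth for `L^n ⊗ O_X/I^m`

`X` proper over a field `k` with `dim X ≤ r`, `L` invertible, `I` an ideal sheaf.
* `exists_polynomial`: `χ(X, L^n ⊗ O_X/I^m) = P(n, m)` for `m ≥ m₀`, `deg P ≤ r`.
* `exists_bound`: `|h⁰ - χ|` of `L^n ⊗ O_X/I^n` is `O(n^(r-1))` if `L` and `I ⊗ L` are globally generated.
-/

set_option autoImplicit false
universe u

open CategoryTheory CategoryTheory.Limits AlgebraicGeometry Opposite TopologicalSpace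

namespace K229.BlowEuler

open Groth.Agent Groth.Agent.Ega2 Groth.Agent.Fdesc.LocGen Groth.Agent.CohqB.SerTw Groth.Agent.Fga.PicMon
open Groth.Agent.Pic13.H946.Core Groth.Agent.CohqB.DevSupport Groth.Agent.VarietyB.DegCartier K229.BlowGG

variable (k : Type u) [Field k] {X : Scheme.{u}} [X.Over (Spec (CommRingCat.of k))]
  [IsProper (X ↘ Spec (CommRingCat.of k))]

include k in
theorem isNoeth : IsNoetherian X := Fga.SnapperTwist.isNoetherian_of_proper k X

include k in
theorem isCoh_structureModule' : Coh.IsCoh (Coh.structureModule X) :=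
  have := isNoeth k (X := X)
  CurvesB.UnitCoh.isCoh_structureModule X

theorem euler_split {N : X.Modules} (hN : PicF.IsInvertible N) (D : X.IdealSheafData) :
    Curv2.euler k X (CohB1.tensorMod N (ClSub.quotMod D)) =
      Curv2.euler k X N - Curv2.euler k X (CohB1.tensorMod N (ClSub.idealMod D)) := by
  have := isNoeth k (X := X)
  have hS := shortExact_tw hN (idealSeq_shortExact D)
  have h1 := S1524.result k X _ hS (isCoh_tensorMod (isCoh_idealMod D) hN)
    (isCoh_tensorMod (isCoh_structureModule' k) hN) (isCoh_tensorMod (isCoh_quotMod D) hN)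
  have h2 : Curv2.euler k X (CohB1.tensorMod (Coh.structureModule X) N) =
      Curv2.euler k X (CohB1.tensorMod (ClSub.idealMod D) N) + Curv2.euler k X (CohB1.tensorMod (ClSub.quotMod D) N) := h1
  rw [euler_mc k (M := CohB1.tensorMod (Coh.structureModule X) N) (N := N) (by rw [mc_tensor, mc_one, one_mul]),
    euler_mc k (M := CohB1.tensorMod (ClSub.idealMod D) N) (N := CohB1.tensorMod N (ClSub.idealMod D))
      (by rw [mc_tensor, mc_tensor, mul_comm]),
    euler_mc k (M := CohB1.tensorMod (ClSub.quotMod D) N) (N := CohB1.tensorMod N (ClSub.quotMod D))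
      (by rw [mc_tensor, mc_tensor, mul_comm])] at h2
  rw [h2, add_sub_cancel_left]

theorem isAdd : Fga.ChiBasic.IsAdd (Curv2.euler k X) := fun S hS h1 h2 h3 => S1524.result k X S hS h1 h2 h3

theorem snap {r : ℕ} (hr : topologicalKrullDim X ≤ (r : WithBot ℕ∞)) {L P : X.Modules} (hL : PicF.IsInvertible L)
    (hP : PicF.IsInvertible P) :
    ∃ Q : MvPolynomial (Fin 2) ℚ, Q.totalDegree ≤ r ∧ ∀ n m : ℕ,
      (Curv2.euler k X (CohB1.tensorMod (CohB1.tensorPow L n) (CohB1.tensorPow P m)) : ℚ) =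
        MvPolynomial.eval ![(n : ℚ), (m : ℚ)] Q := by
  have := isNoeth k (X := X)
  obtain ⟨Q, h1, h2⟩ := Fga.SnapperTwist.snapper' (isAdd k (X := X)) ![L, P]
    (by intro i; fin_cases i; exacts [hL, hP]) (Coh.structureModule X) (isCoh_structureModule' k) r
    ((Topology.IsInducing.subtypeVal.topologicalKrullDim_le).trans hr)
  refine ⟨Q, h1, fun n m => ?_⟩
  have h3 := h2 ![n, m]
  rw [euler_mc k (N := CohB1.tensorMod (CohB1.tensorPow L n) (CohB1.tensorPow P m)) (by
    rw [Fga.SnapperTwist.mc_tensorPows, Fin.prod_univ_two, mc_one, mul_one, mc_tensor, mc_tensorPow, mc_tensorPow]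
    rfl)] at h3
  rw [h3]
  congr 2
  funext i
  fin_cases i <;> rfl

theorem exists_polynomial {r : ℕ} (hr : topologicalKrullDim X ≤ (r : WithBot ℕ∞)) {L : X.Modules}
    (hL : PicF.IsInvertible L) (I : X.IdealSheafData) :
    ∃ (P : MvPolynomial (Fin 2) ℚ) (m₀ : ℕ), P.totalDegree ≤ r ∧
      ∀ m : ℕ, m₀ ≤ m → ∀ n : ℕ,
        (Curv2.euler k X (CohB1.tensorMod (CohB1.tensorPow L n) (ClSub.quotMod (I ^ m))) : ℚ) =
          MvPolynomial.eval ![(n : ℚ), (m : ℚ)] P := by
  obtain ⟨B, i₁, i₂, b, P, n₀, hP, hd, -, h₀⟩ := exists_blow k X I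
  obtain ⟨Q₁, h1, h1'⟩ := snap k hr hL (isInvertible_structureModule (X := X))
  obtain ⟨Q₂, h2, h2'⟩ := snap k (hd.trans hr) (isInvertible_pullback b hL) hP
  refine ⟨Q₁ - Q₂, n₀, (MvPolynomial.totalDegree_sub _ _).trans (max_le h1 h2), fun m hm n => ?_⟩
  rw [euler_split k (isInvertible_tensorPow hL n) (I ^ m), Int.cast_sub, map_sub, ← h1' n m, ← h2' n m,
    euler_mc k (M := CohB1.tensorMod (CohB1.tensorPow L n) (CohB1.tensorPow (Coh.structureModule X) m))
      (N := CohB1.tensorPow L n) (by rw [mc_tensor, mc_tensorPow _ m, mc_one, one_pow, mul_one]),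
    euler_congr k fun q => h₀ m hm L hL n q]

theorem abs_h0_le {r : ℕ} (hr : topologicalKrullDim X ≤ (r : WithBot ℕ∞)) {M : X.Modules} (hM : Coh.IsCoh M) :
    |(Module.finrank k (Coh.HH X M 0) : ℤ) - Curv2.euler k X M| ≤
      ((∑ i ∈ Finset.range r, Module.finrank k (Coh.HH X M (i + 1)) : ℕ) : ℤ) := by
  rw [VarietyA.EulerAdd.euler_eq_sum k M (r + 1) fun i hi => Fga.HodgeSec.subsingleton_HH_of_support k hM r
    ((Topology.IsInducing.subtypeVal.topologicalKrullDim_le).trans hr) i hi, Finset.sum_range_succ', pow_zero, one_mul,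
    sub_add_cancel_right, abs_neg]
  push_cast
  refine (Finset.abs_sum_le_sum_abs _ _).trans (Finset.sum_le_sum fun i _ => ?_)
  rw [abs_mul, abs_pow, abs_neg, abs_one, one_pow, one_mul, Nat.abs_cast]

theorem h_quot_le {N : X.Modules} (hN : PicF.IsInvertible N) (D : X.IdealSheafData) (q : ℕ) :
    Module.finrank k (Coh.HH X (CohB1.tensorMod N (ClSub.quotMod D)) q) ≤
      Module.finrank k (Coh.HH X N q) + Module.finrank k (Coh.HH X (CohB1.tensorMod N (ClSub.idealMod D)) (q + 1)) := by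
  have := isNoeth k (X := X)
  have hS := shortExact_tw hN (idealSeq_shortExact D)
  have h1 := K434.HBound.h_right k hS (isCoh_tensorMod (isCoh_structureModule' k) hN)
    (isCoh_tensorMod (isCoh_idealMod D) hN) (isCoh_tensorMod (isCoh_quotMod D) hN) q
  have h2 : K434.HBound.h k (CohB1.tensorMod (ClSub.quotMod D) N) q ≤
      K434.HBound.h k (CohB1.tensorMod (Coh.structureModule X) N) q +
        K434.HBound.h k (CohB1.tensorMod (ClSub.idealMod D) N) (q + 1) := h1
  rw [K434.HBound.h_congr k (A := CohB1.tensorMod (Coh.structureModule X) N) (B := N)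
      (by rw [mc_tensor, mc_one, one_mul]),
    K434.HBound.h_congr k (A := CohB1.tensorMod (ClSub.idealMod D) N) (B := CohB1.tensorMod N (ClSub.idealMod D))
      (by rw [mc_tensor, mc_tensor, mul_comm]),
    K434.HBound.h_congr k (A := CohB1.tensorMod (ClSub.quotMod D) N) (B := CohB1.tensorMod N (ClSub.quotMod D))
      (by rw [mc_tensor, mc_tensor, mul_comm])] at h2
  exact h2

theorem bound_ideal {r : ℕ} (hr : topologicalKrullDim X ≤ (r : WithBot ℕ∞)) {L : X.Modules}
    (hL : PicF.IsInvertible L) (I : X.IdealSheafData)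
    (hI : Curv2.IsGloballyGenerated (CohB1.tensorMod (ClSub.idealMod I) L)) (q : ℕ) (hq : 1 ≤ q) :
    ∃ C : ℕ, ∀ n : ℕ, 1 ≤ n →
      Module.finrank k (Coh.HH X (CohB1.tensorMod (CohB1.tensorPow L n) (ClSub.idealMod (I ^ n))) q) ≤
        C * n ^ (r - 1) := by
  obtain ⟨B, i₁, i₂, b, P, n₀, hP, hd, hgg, h₀⟩ := exists_blow k X I
  have hbL := isInvertible_pullback b hL
  obtain ⟨C, hC⟩ := GrowthGG.exists_bound k (isInvertible_tensorMod hbL hP) (hgg L hL hI) (hd.trans hr) q hq
  let c : ℕ → ℕ := fun n =>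
    Module.finrank k (Coh.HH X (CohB1.tensorMod (CohB1.tensorPow L n) (ClSub.idealMod (I ^ n))) q)
  refine ⟨∑ n ∈ Finset.range n₀, c n + C, fun n hn => ?_⟩
  change c n ≤ _
  have hp : 1 ≤ n ^ (r - 1) := Nat.one_le_pow _ _ hn
  rcases lt_or_ge n n₀ with hlt | hge
  · have h1 : c n ≤ ∑ n ∈ Finset.range n₀, c n :=
      Finset.single_le_sum (f := c) (fun _ _ => Nat.zero_le _) (Finset.mem_range.mpr hlt)
    calc c n ≤ (∑ n ∈ Finset.range n₀, c n + C) * 1 := by omega
      _ ≤ _ := Nat.mul_le_mul_left _ hp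
  · have h1 : c n = Module.finrank k (Coh.HH B (CohB1.tensorPow
        (CohB1.tensorMod ((Scheme.Modules.pullback b).obj L) P) n) q) := by
      refine (h₀ n hge L hL n q).trans ?_
      refine K434.HBound.h_congr k ?_ q
      rw [mc_tensor, mc_tensorPow, mc_tensorPow, mc_tensorPow, mc_tensor, mul_pow]
    rw [h1]
    exact (hC n hn).trans (Nat.mul_le_mul_right _ (Nat.le_add_left _ _))

theorem exists_bound {r : ℕ} (hr : topologicalKrullDim X ≤ (r : WithBot ℕ∞)) {L : X.Modules}
    (hL : PicF.IsInvertible L) (hg : Curv2.IsGloballyGenerated L) (I : X.IdealSheafData)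
    (hI : Curv2.IsGloballyGenerated (CohB1.tensorMod (ClSub.idealMod I) L)) :
    ∃ C : ℕ, ∀ n : ℕ, 1 ≤ n →
      |(Module.finrank k (Coh.HH X (CohB1.tensorMod (CohB1.tensorPow L n) (ClSub.quotMod (I ^ n))) 0) : ℤ) -
        Curv2.euler k X (CohB1.tensorMod (CohB1.tensorPow L n) (ClSub.quotMod (I ^ n)))| ≤ C * n ^ (r - 1) := by
  have := isNoeth k (X := X)
  choose C₁ h₁ using fun i : ℕ => GrowthGG.exists_bound k hL hg hr (i + 1) (Nat.succ_pos i)
  choose C₂ h₂ using fun i : ℕ => bound_ideal k hr hL I hI (i + 2) (Nat.succ_pos _)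
  refine ⟨∑ i ∈ Finset.range r, (C₁ i + C₂ i), fun n hn => ?_⟩
  have hN := isInvertible_tensorPow hL n
  refine (abs_h0_le k hr (Fga.SnapperTwist.isCoh_tensor' hN (isCoh_quotMod _))).trans ?_
  have h3 : ∑ i ∈ Finset.range r, Module.finrank k (Coh.HH X (CohB1.tensorMod (CohB1.tensorPow L n)
      (ClSub.quotMod (I ^ n))) (i + 1)) ≤ (∑ i ∈ Finset.range r, (C₁ i + C₂ i)) * n ^ (r - 1) := by
    rw [Finset.sum_mul]
    refine Finset.sum_le_sum fun i _ => ?_
    refine (h_quot_le k hN (I ^ n) (i + 1)).trans ?_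
    rw [add_mul]
    exact Nat.add_le_add (h₁ i n hn) (h₂ i n hn)
  exact_mod_cast h3

end K229.BlowEuler
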