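import Groth.Agent.Variety.K434.HBound
import Groth.Agent.Variety.K434.DevIrred
import Groth.Agent.Ega1.GlobGenPt
import Groth.Agent.Fga.IntNum0
import Groth.Agent.S1526

/-!
# Growth of the higher cohomology of powers of a globally generated invertible module

`X` proper over a field `k`, `L` invertible and globally generated, `F` coherent with `dim supp F ≤ e`.
* `growth`: for `i ≥ 1`, `h^i(X, F ⊗ L^n) ≤ C * phi e n` for all `n`, where `phi 0 n = 0` and
  `phi (e + 1) n = (n + 1)^e`.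
* `exists_bound`: for `i ≥ 1` and `dim X = r`, `h^i(X, L^n) ≤ C n^(r-1)` for all `n ≥ 1`.
-/

set_option autoImplicit false
universe u
open CategoryTheory CategoryTheory.Limits AlgebraicGeometry Opposite TopologicalSpace

namespace K229.GrowthGG

open Groth.Agent Groth.Agent.Ega2 Groth.Agent.Fdesc.LocGen Groth.Agent.CohqB.SerTw
open Groth.Agent.Fga.PicMon Groth.Agent.Pic13.H946.Core Groth.Agent.CohqB.DevSupport
open K434.HBound K434.DevIrred

/-- `0` for `e = 0` and `(n + 1)^(e - 1)` otherwise. -/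
def phi (e n : ℕ) : ℕ := if e = 0 then 0 else (n + 1) ^ (e - 1)

theorem phi_zero (n : ℕ) : phi 0 n = 0 := rfl

theorem phi_succ (e n : ℕ) : phi (e + 1) n = (n + 1) ^ e := rfl

theorem phi_mono (e : ℕ) {n m : ℕ} (h : n ≤ m) : phi e n ≤ phi e m := by
  cases e with
  | zero => exact le_rfl
  | succ e => rw [phi_succ, phi_succ]; gcongr

theorem mul_phi_le (e n : ℕ) : n * phi e n ≤ phi (e + 1) n := by
  cases e with
  | zero => rw [phi_zero, mul_zero]; exact Nat.zero_le _
  | succ e => rw [phi_succ, phi_succ, pow_succ, mul_comm]; gcongr; omega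

theorem one_le_phi_succ (e n : ℕ) : 1 ≤ phi (e + 1) n := by
  rw [phi_succ]; exact Nat.one_le_pow _ _ (Nat.succ_pos _)

variable (k : Type u) [Field k] {X : Scheme.{u}} [X.Over (Spec (CommRingCat.of k))]

/-- `h^i(F ⊗ L^n) = O(phi e n)` for all `i ≥ 1`. -/
def Gr (L : X.Modules) (e : ℕ) (F : X.Modules) : Prop :=
  ∀ i, 1 ≤ i → ∃ C : ℕ, ∀ n : ℕ, h k (CohB1.tensorMod F (CohB1.tensorPow L n)) i ≤ C * phi e n

variable {k}

theorem Gr.congr {L : X.Modules} {e : ℕ} {F G : X.Modules} (a : F ≅ G) (hF : Gr k L e F) : Gr k L e G := by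
  intro i hi
  obtain ⟨C, h1⟩ := hF i hi
  refine ⟨C, fun n => ?_⟩
  rw [← h_iso k (Tens.mapTIso a (Iso.refl (CohB1.tensorPow L n)))]
  exact h1 n

theorem Gr.of_isZero {L : X.Modules} {e : ℕ} {F : X.Modules} (hF : IsZero F) : Gr k L e F := by
  intro i _
  refine ⟨0, fun n => ?_⟩
  have h1 : IsZero (CohB1.tensorMod F (CohB1.tensorPow L n)) := (tw (CohB1.tensorPow L n)).map_isZero hF
  rw [h_eq_zero k (Fga.IntNum0.HH_subsingleton_of_isZero h1 i)]
  exact Nat.zero_le _

variable [IsProper (X ↘ Spec (CommRingCat.of k))] {L : X.Modules} (hL : PicF.IsInvertible L)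

include hL

theorem Gr.mid {e : ℕ} {S : ShortComplex X.Modules} (hS : S.ShortExact) (c1 : Coh.IsCoh S.X₁)
    (c2 : Coh.IsCoh S.X₂) (c3 : Coh.IsCoh S.X₃) (h1 : Gr k L e S.X₁) (h3 : Gr k L e S.X₃) :
    Gr k L e S.X₂ := by
  intro i hi
  obtain ⟨C₁, h1⟩ := h1 i hi
  obtain ⟨C₃, h3⟩ := h3 i hi
  refine ⟨C₁ + C₃, fun n => ?_⟩
  have hN := isInvertible_tensorPow hL n
  have h2 := h_mid k (shortExact_tw hN hS) (isCoh_tensorMod c2 hN) (isCoh_tensorMod c1 hN)
    (isCoh_tensorMod c3 hN) i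
  refine h2.trans ?_
  rw [add_mul]
  exact Nat.add_le_add (h1 n) (h3 n)

/-- multiplication by a section with small kernel and cokernel. -/
theorem Gr.step {e : ℕ} {F : X.Modules} (hF : Coh.IsCoh F) (φ : F ⟶ CohB1.tensorMod F L)
    (hK : Gr k L e (kernel φ)) (hQ : Gr k L e (cokernel φ)) : Gr k L (e + 1) F := by
  intro i hi
  obtain ⟨C₁, h₁⟩ := hK (i + 1) (hi.trans (Nat.le_succ i))
  obtain ⟨C₂, h₂⟩ := hQ i hi
  set C₀ := h k (CohB1.tensorMod F (CohB1.tensorPow L 0)) i with hC₀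
  have key : ∀ n : ℕ, h k (CohB1.tensorMod F (CohB1.tensorPow L n)) i ≤ C₀ + n * ((C₁ + C₂) * phi e n) := by
    intro n
    induction n with
    | zero => simp [hC₀]
    | succ n ih =>
      have hN := isInvertible_tensorPow hL n
      have e1 := h_target_le k φ hF (isCoh_tensorMod hF hL) hN i
      have e2 : h k (CohB1.tensorMod (CohB1.tensorMod F L) (CohB1.tensorPow L n)) i =
          h k (CohB1.tensorMod F (CohB1.tensorPow L (n + 1))) i := by
        refine h_congr k ?_ i
        rw [mc_tensor, mc_tensor, mc_tensor, mc_tensorPow, mc_tensorPow, pow_succ, mul_assoc,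
          mul_comm (mc L)]
      rw [← e2]
      have h3 : (C₁ + C₂) * phi e n ≤ (C₁ + C₂) * phi e (n + 1) :=
        Nat.mul_le_mul_left _ (phi_mono e (Nat.le_succ _))
      have h4 := h₁ n
      have h5 := h₂ n
      calc _ ≤ (C₀ + n * ((C₁ + C₂) * phi e n)) + (C₁ + C₂) * phi e n := by
            refine e1.trans ?_
            rw [add_mul C₁ C₂] at *
            omega
        _ ≤ (C₀ + n * ((C₁ + C₂) * phi e (n + 1))) + (C₁ + C₂) * phi e (n + 1) :=
          Nat.add_le_add (Nat.add_le_add_left (Nat.mul_le_mul_left _ h3) _) h3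
        _ = _ := by ring
  refine ⟨C₀ + (C₁ + C₂), fun n => (key n).trans ?_⟩
  rw [add_mul C₀]
  refine Nat.add_le_add (Nat.le_mul_of_pos_right _ (one_le_phi_succ _ _)) ?_
  calc n * ((C₁ + C₂) * phi e n) = (C₁ + C₂) * (n * phi e n) := by ring
    _ ≤ _ := Nat.mul_le_mul_left _ (mul_phi_le e _)

variable (hg : Curv2.IsGloballyGenerated L)

include hg

/-- **Growth of the higher cohomology.** -/
theorem growth (e : ℕ) (F : X.Modules) (hF : Coh.IsCoh F)
    (hd : topologicalKrullDim (CohB1.support F) ≤ (e : WithBot ℕ∞)) : Gr k L e F := by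
  have := VarietyA.TwistExist.isNoetherian k X
  induction e generalizing F with
  | zero =>
    intro i hi
    refine ⟨0, fun n => ?_⟩
    have hN := isInvertible_tensorPow hL n
    have h1 := S1526.result k X (CohB1.tensorMod F (CohB1.tensorPow L n)) (isCoh_tensorMod hF hN)
      (by rw [support_tw hN]; exact_mod_cast hd) i hi
    rw [h_eq_zero k h1]
    exact Nat.zero_le _
  | succ e ih =>
    refine devissage (e + 1) (Gr k L (e + 1)) (fun M N ⟨a⟩ => Gr.congr a) (fun M hM => Gr.of_isZero hM)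
      (fun S hS c1 c2 c3 h1 h3 => Gr.mid hL hS c1 c2 c3 h1 h3) ?_ F hF hd
    intro G ξ hG hξ hdG
    obtain ⟨s, hs⟩ := Ega1.GlobGenPt.exists_mem_genLocus hL hg ξ
    obtain ⟨φ, h1, h2, h3, h4⟩ := exists_mul hL s hs G
    have hGL := isCoh_tensorMod hG hL
    have hK : Coh.IsCoh (kernel φ) := isCoh_kernel φ hG hGL.1
    have hQ : Coh.IsCoh (cokernel φ) := isCoh_cokernel φ hG.1 hGL
    exact Gr.step hL hG φ (ih _ hK (dim_support_le hK hξ h3 h1 hdG)) (ih _ hQ (dim_support_le hQ hξ h4 h2 hdG))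

omit hL hg in
/-- `h^i(X, L^n) ≤ C n^(r-1)`. -/
theorem exists_bound (k : Type u) [Field k] {X : Scheme.{u}} [X.Over (Spec (CommRingCat.of k))]
    [IsProper (X ↘ Spec (CommRingCat.of k))] {L : X.Modules} (hL : PicF.IsInvertible L)
    (hg : Curv2.IsGloballyGenerated L) {r : ℕ} (hdim : topologicalKrullDim X ≤ (r : WithBot ℕ∞)) (i : ℕ) (hi : 1 ≤ i) :
    ∃ C : ℕ, ∀ n : ℕ, 1 ≤ n → Module.finrank k (Coh.HH X (CohB1.tensorPow L n) i) ≤ C * n ^ (r - 1) := by
  have hO : Coh.IsCoh (Coh.structureModule X) :=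
    have := VarietyA.TwistExist.isNoetherian k X
    VarietyA.CurveFin.isCoh_of_isInvertible (X := X) isInvertible_structureModule
  obtain ⟨C, hC⟩ := growth (k := k) hL hg r (Coh.structureModule X) hO
    ((Topology.IsInducing.subtypeVal.topologicalKrullDim_le).trans hdim) i hi
  refine ⟨C * 2 ^ (r - 1), fun n hn => ?_⟩
  have h1 : h k (CohB1.tensorMod (Coh.structureModule X) (CohB1.tensorPow L n)) i =
      Module.finrank k (Coh.HH X (CohB1.tensorPow L n) i) :=
    h_congr k (by rw [mc_tensor, mc_one, one_mul]) i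
  rw [← h1]
  refine (hC n).trans ?_
  rw [mul_assoc]
  refine Nat.mul_le_mul_left _ ?_
  cases r with
  | zero => exact Nat.zero_le _
  | succ r =>
    rw [phi_succ, Nat.add_sub_cancel, ← mul_pow]
    exact Nat.pow_le_pow_left (by omega) _

end K229.GrowthGG
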