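import Groth.Agent.Coh.K229.BlowCoh
import Groth.Agent.Coh.K229.GrowthGG
import Groth.Agent.Pic13.H945.IdealPull
import Groth.Agent.FormalB.ModPowAff2
import Groth.Agent.VarietyB.GGStalk
import Groth.Agent.VarietyB.DegCartier
import Groth.Agent.CohqB.FinAmple
import Groth.Agent.Fga.SnapperTwist
import Groth.Agent.ASBun.K791.Tens
import Groth.Agent.S8859
import Groth.Agent.S1524

/-!
# The blow-up of an ideal and the Euler characteristics and growth of `L^n ⊗ I^m`

* `epi_theta`: `b^* J → J O_{X'}` is an epimorphism.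
* `exists_blow`: for `X` proper over a field `k` and `I` an ideal sheaf, a scheme `B` proper over `k` with
  `dim B ≤ dim X`, `b : B ⟶ X` and an invertible `P` on `B` with `h^q(X, L^j ⊗ I^n) = h^q(B, (b^*L)^j ⊗ P^n)` for all
  large `n`, all invertible `L` and all `j`, `q`; and `b^*L ⊗ P` is globally generated if `I ⊗ L` is.
-/

set_option autoImplicit false
universe u

open CategoryTheory CategoryTheory.Limits AlgebraicGeometry Opposite TopologicalSpace

namespace K229.BlowGG

open Groth.Agent Groth.Agent.Ega2 Groth.Agent.Fdesc.LocGen Groth.Agent.CohqB.SerTw Groth.Agent.Pic13.H946.Core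
open Groth.Agent.Pic13.H945.IdealPull Groth.Agent.Fga.PicMon
open Groth.Agent.Dix.IdealModCartier (val val_injective val_mem exists_val_eq val_smul)

variable {X Y : Scheme.{u}} (g : Y ⟶ X) (J : X.IdealSheafData)

theorem epi_theta : Epi (theta g J) := by
  refine FormalB.ModPowAff2.epi_of_affine_cover (PerfA.IdealModule.isQCoh_idealMod _) _ fun y => ?_
  obtain ⟨U, hU, hyU, -⟩ := exists_isAffineOpen_mem_and_subset (x := g y) (U := ⊤) trivial
  obtain ⟨V, hV, hyV, hVU⟩ := exists_isAffineOpen_mem_and_subset (x := y) (U := g ⁻¹ᵁ U) hyU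
  refine ⟨V, hyV, hV, fun t => ?_⟩
  have h1 : val (J.comap g) t ∈ (J.ideal ⟨U, hU⟩).map (g.appLE U V hVU).hom := by
    have h2 := val_mem (J.comap g) ⟨V, hV⟩ t
    rwa [Divis.IdealComap.ideal_comap J g ⟨U, hU⟩ ⟨V, hV⟩ hVU] at h2
  have key : ∀ a ∈ (J.ideal ⟨U, hU⟩).map (g.appLE U V hVU).hom,
      ∃ s : Γ((Scheme.Modules.pullback g).obj (ClSub.idealMod J), V), val (J.comap g) ((theta g J).app V s) = a := by
    intro a ha
    refine Submodule.span_induction ?_ ?_ ?_ ?_ ha
    · rintro _ ⟨c, hc, rfl⟩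
      obtain ⟨s, hs⟩ := exists_val_eq J ⟨U, hU⟩ hc
      refine ⟨VarietyB.PullSec.sec g _ hVU s, ?_⟩
      rw [theta_sec, val_pullVal, hs]
    · exact ⟨0, by rw [map_zero, val_zero]⟩
    · rintro a a' - - ⟨s, hs⟩ ⟨s', hs'⟩
      exact ⟨s + s', by rw [map_add, val_add, hs, hs']⟩
    · rintro r a - ⟨s, hs⟩
      refine ⟨r • s, ?_⟩
      rw [Scheme.Modules.Hom.app_smul, val_smul, hs]
      rfl
  obtain ⟨s, hs⟩ := key _ h1
  exact ⟨s, val_injective _ hs⟩

theorem gg_of_epi {M N : X.Modules} (φ : M ⟶ N) [Epi φ] (h : Curv2.IsGloballyGenerated M) :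
    Curv2.IsGloballyGenerated N := by
  obtain ⟨κ, p, hp⟩ := h
  exact ⟨κ, p ≫ φ, @epi_comp _ _ _ _ _ p hp φ ‹_›⟩

theorem gg_blow {L : X.Modules} (hL : PicF.IsInvertible L)
    (h : Curv2.IsGloballyGenerated (CohB1.tensorMod (ClSub.idealMod J) L)) :
    Curv2.IsGloballyGenerated (CohB1.tensorMod ((Scheme.Modules.pullback g).obj L) (ClSub.idealMod (J.comap g))) := by
  have h1 := VarietyB.GGStalk.isGloballyGenerated_pullback g _ h
  have hE := epi_theta g J
  have hL' := isInvertible_pullback g hL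
  have hS := CohqB.SerTw.shortExact_tw hL' (VarietyA.StalkCrit.shortExact_kernel (theta g J))
  let φ : CohB1.tensorMod ((Scheme.Modules.pullback g).obj (ClSub.idealMod J)) ((Scheme.Modules.pullback g).obj L) ⟶
      CohB1.tensorMod (ClSub.idealMod (J.comap g)) ((Scheme.Modules.pullback g).obj L) :=
    (CohqB.SerTw.tw ((Scheme.Modules.pullback g).obj L)).map (theta g J)
  have hφ : Epi φ := hS.epi_g
  let e := ASBun.K791.Tens.pullTens g (ClSub.idealMod J) L
  have h2 : Epi (e.hom ≫ φ ≫ (Ega2.Tens.swap _ _).hom) := inferInstance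
  exact gg_of_epi (e.hom ≫ φ ≫ (Ega2.Tens.swap _ _).hom) h1

theorem euler_congr (k : Type u) [Field k] {X Y : Scheme.{u}} [X.Over (Spec (CommRingCat.of k))]
    [Y.Over (Spec (CommRingCat.of k))] {M : X.Modules} {N : Y.Modules}
    (h : ∀ q, Module.finrank k (Coh.HH X M q) = Module.finrank k (Coh.HH Y N q)) :
    Curv2.euler k X M = Curv2.euler k Y N := by
  unfold Curv2.euler
  exact finsum_congr fun i => by rw [h i]

theorem euler_mc (k : Type u) [Field k] {X : Scheme.{u}} [X.Over (Spec (CommRingCat.of k))]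
    {M N : X.Modules} (h : mc M = mc N) : Curv2.euler k X M = Curv2.euler k X N := by
  obtain ⟨e⟩ := (mc_eq_iff _ _).mp h
  exact euler_congr k fun q => (hmapEquiv k X e q).finrank_eq

theorem isFinLocFree_of_isInvertible {L : X.Modules} (hL : PicF.IsInvertible L) : FlatMod.IsFinLocFree L := by
  intro x
  obtain ⟨U, hU, ⟨e⟩⟩ := hL x
  refine ⟨U, 1, hU, ⟨e ≪≫ ?_⟩⟩
  exact (Limits.coproductUniqueIso (fun _ : Fin 1 => Coh.structureModule (↑U : Scheme.{u}))).symm

theorem exists_blow (k : Type u) [Field k] (X : Scheme.{u}) [X.Over (Spec (CommRingCat.of k))]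
    [IsProper (X ↘ Spec (CommRingCat.of k))] (I : X.IdealSheafData) :
    ∃ (B : Scheme.{u}) (_ : B.Over (Spec (CommRingCat.of k))) (_ : IsProper (B ↘ Spec (CommRingCat.of k)))
      (b : B ⟶ X) (P : B.Modules) (n₀ : ℕ), PicF.IsInvertible P ∧
      topologicalKrullDim B ≤ topologicalKrullDim X ∧
      (∀ L : X.Modules, PicF.IsInvertible L → Curv2.IsGloballyGenerated (CohB1.tensorMod (ClSub.idealMod I) L) →
        Curv2.IsGloballyGenerated (CohB1.tensorMod ((Scheme.Modules.pullback b).obj L) P)) ∧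
      ∀ n : ℕ, n₀ ≤ n → ∀ L : X.Modules, PicF.IsInvertible L → ∀ j q : ℕ,
        Module.finrank k (Coh.HH X (CohB1.tensorMod (CohB1.tensorPow L j) (ClSub.idealMod (I ^ n))) q) =
          Module.finrank k (Coh.HH B (CohB1.tensorMod
            (CohB1.tensorPow ((Scheme.Modules.pullback b).obj L) j) (CohB1.tensorPow P n)) q) := by
  have := Fga.SnapperTwist.isNoetherian_of_proper k X
  obtain ⟨B, b, hb⟩ := S8859.result X I
  have hbp : IsProper b := Flat2C.BlowProper.isProper_of_isBlowUp hb (Pic13.H17.BlowPatch.isFiniteTypeIdeal I)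
  let i₁ : B.Over (Spec (CommRingCat.of k)) := ⟨b ≫ (X ↘ Spec (CommRingCat.of k))⟩
  have hA : b ≫ (X ↘ Spec (CommRingCat.of k)) = B ↘ Spec (CommRingCat.of k) := rfl
  have i₂ : IsProper (B ↘ Spec (CommRingCat.of k)) := by
    change IsProper (b ≫ (X ↘ Spec (CommRingCat.of k)))
    infer_instance
  have := Fga.SnapperTwist.isNoetherian_of_proper k B
  have hP : PicF.IsInvertible (ClSub.idealMod (I.comap b)) := Ega1.IdealGen.isInvertible_idealMod _ hb.1
  obtain ⟨n₀, h₀⟩ := BlowCoh.exists_equiv k hA hb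
  refine ⟨B, i₁, i₂, b, ClSub.idealMod (I.comap b), n₀, hP, BlowCoh.dim_le (X ↘ Spec (CommRingCat.of k)) hb,
    fun L hL h => gg_blow b I hL h, fun n hn L hL j q => ?_⟩
  have hLj := isInvertible_tensorPow hL j
  obtain ⟨e⟩ := h₀ n hn _ (isFinLocFree_of_isInvertible hLj) q
  rw [e.finrank_eq]
  obtain ⟨e1⟩ := Sga2.ThickCoh.idealMod_pow hb.1 n
  have h3 : mc (CohB1.tensorMod ((Scheme.Modules.pullback b).obj (CohB1.tensorPow L j))
      (ClSub.idealMod ((I.comap b) ^ n))) = mc (CohB1.tensorMod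
            (CohB1.tensorPow ((Scheme.Modules.pullback b).obj L) j) (CohB1.tensorPow (ClSub.idealMod (I.comap b)) n)) := by
    obtain ⟨e3⟩ := CohqB.FinAmple.nonempty_pullback_tensorPow b hL j
    rw [mc_tensor, mc_tensor, (mc_eq_iff _ _).mpr ⟨e1⟩, mc_eq e3]
  obtain ⟨e2⟩ := (mc_eq_iff _ _).mp h3
  exact (hmapEquiv k B e2 q).finrank_eq

end K229.BlowGG
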